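import Mathlib
import Cfsg.Prelude.Def_RootSubgroups
import Cfsg.Agent.Lib.LinearGroup.Generation

/-!
Transvections of a special linear group in characteristic two: root involutions.
-/

set_option autoImplicit false

namespace Cfsg.Agent.ThreeTrans62

open Matrix Polynomial
open scoped Matrix

variable {F : Type*} [Field F] {k : Type} [Fintype k] [DecidableEq k]

/-- the transvections `1 + v wᵀ`. -/
def IsTv (t : Matrix.SpecialLinearGroup k F) : Prop :=
  ∃ v w : k → F, v ≠ 0 ∧ w ≠ 0 ∧ w ⬝ᵥ v = 0 ∧ (t : Matrix k k F) = 1 + vecMulVec v w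

theorem vmv_mul (v w v' w' : k → F) :
    vecMulVec v w * vecMulVec v' w' = (w ⬝ᵥ v') • vecMulVec v w' := by
  rw [vecMulVec_mul_vecMulVec]
  ext i j
  simp [vecMulVec_apply]
  ring

theorem transvection_eq (i j : k) (c : F) :
    Matrix.transvection i j c = 1 + vecMulVec (Pi.single i c) (Pi.single j 1) := by
  ext a b
  by_cases h1 : i = a <;> by_cases h2 : j = b <;>
    simp [Matrix.transvection, Matrix.single_apply, vecMulVec_apply, Pi.single_apply, h1, h2, eq_comm]

theorem isTv_transvection {t : Matrix.SpecialLinearGroup k F} {i j : k} (hij : i ≠ j) {c : F}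
    (hc : c ≠ 0) (ht : (t : Matrix k k F) = Matrix.transvection i j c) : IsTv t := by
  refine ⟨Pi.single i c, Pi.single j 1, ?_, ?_, ?_, ht.trans (transvection_eq i j c)⟩
  · simpa [Pi.single_eq_zero_iff] using hc
  · simp [Pi.single_eq_zero_iff]
  · simp [Pi.single_apply, Ne.symm hij]

theorem IsTv.conj {t : Matrix.SpecialLinearGroup k F} (ht : IsTv t)
    (g : Matrix.SpecialLinearGroup k F) : IsTv (g * t * g⁻¹) := by
  obtain ⟨v, w, hv, hw, hwv, e⟩ := ht
  have h1 : (g : Matrix k k F) * (g⁻¹ : Matrix.SpecialLinearGroup k F) = 1 := by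
    rw [← Matrix.SpecialLinearGroup.coe_mul, mul_inv_cancel, Matrix.SpecialLinearGroup.coe_one]
  have h2 : ((g⁻¹ : Matrix.SpecialLinearGroup k F) : Matrix k k F) * g = 1 := by
    rw [← Matrix.SpecialLinearGroup.coe_mul, inv_mul_cancel, Matrix.SpecialLinearGroup.coe_one]
  refine ⟨(g : Matrix k k F) *ᵥ v, w ᵥ* ((g⁻¹ : Matrix.SpecialLinearGroup k F) : Matrix k k F),
    ?_, ?_, ?_, ?_⟩
  · intro h
    apply hv
    rw [← one_mulVec v, ← h2, ← mulVec_mulVec, h, mulVec_zero]
  · intro h
    apply hw
    rw [← vecMul_one w, ← h2, ← vecMul_vecMul, h, zero_vecMul]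
  · rw [dotProduct_mulVec, vecMul_vecMul, h2, vecMul_one, hwv]
  · rw [Matrix.SpecialLinearGroup.coe_mul, Matrix.SpecialLinearGroup.coe_mul, e, mul_add, add_mul,
      mul_one, h1, mul_vecMulVec, vecMulVec_mul]

section char2

variable [CharP F 2]

theorem smul_add_self {M : Type*} [AddCommGroup M] [Module F M] (x : M) : x + x = 0 := by
  rw [← two_smul F, show (2 : F) = 0 from CharTwo.two_eq_zero, zero_smul]

theorem IsTv.orderOf_eq {t : Matrix.SpecialLinearGroup k F} (ht : IsTv t) : orderOf t = 2 := by
  obtain ⟨v, w, hv, hw, hwv, e⟩ := ht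
  refine orderOf_eq_prime ?_ ?_
  · apply Subtype.ext
    rw [pow_two, Matrix.SpecialLinearGroup.coe_mul, e, Matrix.SpecialLinearGroup.coe_one, mul_add,
      add_mul, add_mul, vmv_mul, hwv, zero_smul, one_mul, one_mul, mul_one, add_zero, add_assoc,
      smul_add_self (F := F) (vecMulVec v w), add_zero]
  · intro h
    rw [h, Matrix.SpecialLinearGroup.coe_one, left_eq_add] at e
    obtain ⟨i, hi⟩ := Function.ne_iff.mp hv
    obtain ⟨j, hj⟩ := Function.ne_iff.mp hw
    have := congrFun (congrFun e i) j
    simp only [vecMulVec_apply, Matrix.zero_apply] at this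
    exact mul_ne_zero hi hj this

theorem IsTv.pair [Finite F] {a b : Matrix.SpecialLinearGroup k F} (ha : IsTv a) (hb : IsTv b) :
    a * b = b * a ∨ Odd (orderOf (a * b)) ∧ (Nat.card F = 2 → (a * b) ^ 3 = 1) ∨
      (orderOf (a * b) = 4 ∧ IsTv ((a * b) ^ 2)) := by
  obtain ⟨v1, w1, hv1, hw1, h11, ea⟩ := ha
  obtain ⟨v2, w2, hv2, hw2, h22, eb⟩ := hb
  set A := vecMulVec v1 w1 with hA
  set B := vecMulVec v2 w2 with hB
  set α := w1 ⬝ᵥ v2 with hα
  set β := w2 ⬝ᵥ v1 with hβ
  have hAA : A * A = 0 := by rw [hA, vmv_mul, h11, zero_smul]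
  have hBB : B * B = 0 := by rw [hB, vmv_mul, h22, zero_smul]
  have hAB : A * B = α • vecMulVec v1 w2 := by rw [hA, hB, vmv_mul]
  have hBA : B * A = β • vecMulVec v2 w1 := by rw [hA, hB, vmv_mul]
  have hABA : A * B * A = (α * β) • A := by
    rw [hAB, hA, smul_mul_assoc, vmv_mul, smul_smul]
  have hBAB : B * A * B = (α * β) • B := by
    rw [hBA, hB, smul_mul_assoc, vmv_mul, smul_smul, mul_comm]
  set N := A + B + A * B with hN
  have hx : ((a * b : Matrix.SpecialLinearGroup k F) : Matrix k k F) = 1 + N := by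
    rw [Matrix.SpecialLinearGroup.coe_mul, ea, eb, hN]
    noncomm_ring
  set s := α * β with hs
  have hN2 : N * N = A * B + B * A + s • B + s • A + s • (A * B) := by
    rw [hN]
    calc (A + B + A * B) * (A + B + A * B)
        = A * A + A * B + (A * A) * B + (B * A + B * B + B * A * B) +
          (A * B * A + A * (B * B) + (A * B * A) * B) := by noncomm_ring
      _ = _ := by rw [hAA, hBB, hABA, hBAB, smul_mul_assoc, zero_mul, mul_zero]; abel
  by_cases hs0 : s = 0
  · have hN2' : N * N = A * B + B * A := by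
      rw [hN2, hs0, zero_smul, zero_smul, zero_smul, add_zero, add_zero, add_zero]
    have hsq : (((a * b) ^ 2 : Matrix.SpecialLinearGroup k F) : Matrix k k F) = 1 + (A * B + B * A) := by
      rw [pow_two, Matrix.SpecialLinearGroup.coe_mul, hx]
      calc (1 + N) * (1 + N) = 1 + (N + N) + N * N := by noncomm_ring
        _ = 1 + (N + N) + (A * B + B * A) := by rw [hN2']
        _ = _ := by rw [smul_add_self (F := F) N, add_zero]
    rcases mul_eq_zero.mp hs0 with h | h
    · by_cases h' : β = 0
      · left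
        apply Subtype.ext
        rw [Matrix.SpecialLinearGroup.coe_mul, Matrix.SpecialLinearGroup.coe_mul, ea, eb]
        have e1 : A * B = 0 := by rw [hAB, h, zero_smul]
        have e2 : B * A = 0 := by rw [hBA, h', zero_smul]
        rw [mul_add, add_mul, add_mul, mul_add, add_mul, add_mul, e1, e2]
        simp only [one_mul, mul_one, add_zero]
        abel
      · refine Or.inr (Or.inr ?_)
        have hT : IsTv ((a * b) ^ 2) := ⟨β • v2, w1, smul_ne_zero h' hv2, hw1,
          by rw [dotProduct_smul, ← hα, h, smul_zero],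
          by rw [hsq, hAB, hBA, h, zero_smul, zero_add, smul_vecMulVec]⟩
        exact ⟨orderOf_eq_prime_pow (p := 2) (n := 1) (fun e => by
          have h2 := hT.orderOf_eq
          rw [pow_one] at e
          rw [e, orderOf_one] at h2
          omega) (by
          rw [show 2 ^ (1 + 1) = 2 * 2 from rfl, pow_mul]
          exact orderOf_dvd_iff_pow_eq_one.mp hT.orderOf_eq.dvd), hT⟩
    · by_cases h' : α = 0
      · left
        apply Subtype.ext
        rw [Matrix.SpecialLinearGroup.coe_mul, Matrix.SpecialLinearGroup.coe_mul, ea, eb]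
        have e1 : A * B = 0 := by rw [hAB, h', zero_smul]
        have e2 : B * A = 0 := by rw [hBA, h, zero_smul]
        rw [mul_add, add_mul, add_mul, mul_add, add_mul, add_mul, e1, e2]
        simp only [one_mul, mul_one, add_zero]
        abel
      · refine Or.inr (Or.inr ?_)
        have hT : IsTv ((a * b) ^ 2) := ⟨α • v1, w2, smul_ne_zero h' hv1, hw2,
          by rw [dotProduct_smul, ← hβ, h, smul_zero],
          by rw [hsq, hAB, hBA, h, zero_smul, add_zero, smul_vecMulVec]⟩
        exact ⟨orderOf_eq_prime_pow (p := 2) (n := 1) (fun e => by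
          have h2 := hT.orderOf_eq
          rw [pow_one] at e
          rw [e, orderOf_one] at h2
          omega) (by
          rw [show 2 ^ (1 + 1) = 2 * 2 from rfl, pow_mul]
          exact orderOf_dvd_iff_pow_eq_one.mp hT.orderOf_eq.dvd), hT⟩
  -- both scalar products are nonzero
  refine Or.inr (Or.inl ?_)
  have hN3 : N * N * N + s • (N * N) + s • N = 0 := by
    have e1 : (A * B) * N = s • A + s • (A * B) := by
      calc (A * B) * N = A * B * A + A * (B * B) + (A * B * A) * B := by rw [hN]; noncomm_ring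
        _ = _ := by rw [hABA, hBB, mul_zero, add_zero, smul_mul_assoc]
    have e2 : (B * A) * N = s • B := by
      calc (B * A) * N = B * (A * A) + B * A * B + B * (A * A) * B := by rw [hN]; noncomm_ring
        _ = _ := by rw [hAA, hBAB, mul_zero, zero_mul, zero_add, add_zero]
    have e3 : B * N = B * A + s • B := by
      calc B * N = B * A + B * B + B * A * B := by rw [hN]; noncomm_ring
        _ = _ := by rw [hBB, hBAB, add_zero]
    have e4 : A * N = A * B := by
      calc A * N = A * A + A * B + (A * A) * B := by rw [hN]; noncomm_ring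
        _ = _ := by rw [hAA, zero_mul, zero_add, add_zero]
    have e5 : N * N * N = (s • A + s • (A * B)) + s • B + s • (B * A + s • B) + s • (A * B) +
        s • (s • A + s • (A * B)) := by
      rw [hN2, add_mul, add_mul, add_mul, add_mul, e1, e2, smul_mul_assoc, smul_mul_assoc,
        smul_mul_assoc, e3, e4, e1]
    rw [e5, hN2, hN]
    have h2 : (2 : F) = 0 := CharTwo.two_eq_zero
    have h4 : (4 : F) = 0 := by rw [show (4 : F) = 2 * 2 by norm_num, h2, zero_mul]
    match_scalars <;> ring_nf <;> simp [h2, h4]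
  set x := ((a * b : Matrix.SpecialLinearGroup k F) : Matrix k k F) with hxdef
  let P : F[X] := (X - C 1) * (X ^ 2 + C s * X + C 1)
  have hPx : aeval x P = 0 := by
    simp only [P, map_mul, map_sub, map_add, map_pow, aeval_X, aeval_C, map_one, Algebra.algebraMap_eq_smul_one]
    rw [hx, smul_mul_assoc, one_mul]
    calc (1 + N - 1) * ((1 + N) ^ 2 + s • (1 + N) + 1)
        = (N * N * N + s • (N * N) + s • N) + ((N + N) + (N * N + N * N)) := by
          rw [add_sub_cancel_left, smul_add, mul_add, mul_add, mul_add, mul_smul_comm, mul_smul_comm,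
            mul_one]
          noncomm_ring
      _ = 0 := by rw [hN3, smul_add_self (F := F) N, smul_add_self (F := F) (N * N)]; simp
  refine ⟨?_, ?_⟩
  · -- semisimplicity
    have hq : (X ^ 2 + C s * X + C 1 : F[X]).Separable := by
      rw [separable_def']
      refine ⟨0, C s⁻¹, ?_⟩
      simp only [derivative_add, derivative_mul, derivative_C, derivative_X, derivative_pow,
        Nat.cast_ofNat, CharTwo.two_eq_zero]
      simp [← C_mul, inv_mul_cancel₀ hs0]
    have hcop : IsCoprime (X - C 1 : F[X]) (X ^ 2 + C s * X + C 1) := by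
      refine ⟨C s⁻¹ * (X + C (1 + s)), C s⁻¹, ?_⟩
      have h2 : (2 : F[X]) = 0 := by
        rw [← map_ofNat C, CharTwo.two_eq_zero, map_zero]
      have hs' : (C s⁻¹ : F[X]) * C s = 1 := by rw [← C_mul, inv_mul_cancel₀ hs0, C_1]
      simp only [map_add, map_one]
      linear_combination hs' + (C s⁻¹ * X ^ 2 + C s⁻¹ * C s * X - C s⁻¹ * C s) * h2
    have hP : P.Separable := (separable_X_sub_C (x := (1 : F))).mul hq hcop
    rw [← Nat.not_even_iff_odd]
    rintro ⟨m, hm⟩
    have hdvd1 : aeval x ((X ^ m - 1) ^ 2 : F[X]) = 0 := by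
      rw [map_pow, map_sub, map_pow, aeval_X, map_one]
      have h1 : x ^ (m + m) = 1 := by
        rw [hxdef, ← Matrix.SpecialLinearGroup.coe_pow, ← hm, pow_orderOf_eq_one,
          Matrix.SpecialLinearGroup.coe_one]
      rw [pow_two, sub_mul, mul_sub, mul_one, one_mul, ← pow_add, h1]
      calc 1 - x ^ m - (x ^ m - 1) = (1 + 1) - (x ^ m + x ^ m) := by abel
        _ = 0 := by rw [smul_add_self (F := F), smul_add_self (F := F), sub_zero]
    have hint : IsIntegral F x := Matrix.isIntegral x
    have hmin1 : minpoly F x ∣ P := minpoly.dvd F x hPx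
    have hmin2 : minpoly F x ∣ (X ^ m - 1) ^ 2 := minpoly.dvd F x hdvd1
    have hsf : Squarefree (minpoly F x) := hP.squarefree.squarefree_of_dvd hmin1
    have hmin3 : minpoly F x ∣ X ^ m - 1 := hsf.dvd_pow_iff_dvd two_ne_zero |>.mp hmin2
    have h0 : aeval x (X ^ m - 1 : F[X]) = 0 := by
      obtain ⟨c, hc⟩ := hmin3
      rw [hc, map_mul, minpoly.aeval, zero_mul]
    rw [map_sub, map_pow, aeval_X, map_one, sub_eq_zero, hxdef,
      ← Matrix.SpecialLinearGroup.coe_pow, ← Matrix.SpecialLinearGroup.coe_one] at h0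
    have h00 : (a * b) ^ m = 1 := Subtype.ext h0
    have hd := orderOf_dvd_of_pow_eq_one h00
    have hpos := orderOf_pos (a * b)
    have := Nat.le_of_dvd (by omega : 0 < m) hd
    omega
  · intro hF
    have hs1 : s = 1 := by
      haveI : Finite F := Nat.finite_of_card_ne_zero (by omega)
      letI := Fintype.ofFinite F
      have : s ^ (Fintype.card F - 1) = 1 := FiniteField.pow_card_sub_one_eq_one s hs0
      rw [← Nat.card_eq_fintype_card, hF, pow_one] at this
      exact this
    apply Subtype.ext
    rw [Matrix.SpecialLinearGroup.coe_pow, Matrix.SpecialLinearGroup.coe_one, ← hxdef]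
    simp only [P, hs1, map_mul, map_sub, map_add, map_pow, aeval_X, aeval_C, map_one, one_mul] at hPx
    rw [← sub_eq_zero, ← hPx]
    noncomm_ring

end char2

/-- every transvection is conjugate to the standard one. -/
theorem exists_conj {n : ℕ} {t : Matrix.SpecialLinearGroup (Fin (n + 3)) F} (ht : IsTv t) :
    ∃ g : Matrix.SpecialLinearGroup (Fin (n + 3)) F,
      ((g⁻¹ * t * g : Matrix.SpecialLinearGroup (Fin (n + 3)) F) :
        Matrix (Fin (n + 3)) (Fin (n + 3)) F) = Matrix.transvection 0 1 1 := by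
  obtain ⟨v, w, hv, hw, hwv, e⟩ := ht
  obtain ⟨j, hj⟩ := Function.ne_iff.mp hw
  obtain ⟨i, hij, hi⟩ : ∃ i, i ≠ j ∧ v i ≠ 0 := by
    by_contra! h
    refine hv (funext fun i => ?_)
    by_cases hij : i = j
    · subst hij
      have : w ⬝ᵥ v = w i * v i := by
        refine Finset.sum_eq_single i (fun l _ hl => ?_) (by simp)
        rw [h l hl, mul_zero]
      rw [hwv] at this
      exact (mul_eq_zero.mp this.symm).resolve_left hj
    · exact h i hij
  let t' := Equiv.swap (0 : Fin (n + 3)) i 1
  have ht' : t' ≠ i := by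
    intro h
    have : Equiv.swap (0 : Fin (n + 3)) i 1 = Equiv.swap 0 i 0 := h.trans (Equiv.swap_apply_left _ _).symm
    simpa [Fin.ext_iff] using (Equiv.swap 0 i).injective this
  let σ : Equiv.Perm (Fin (n + 3)) := (Equiv.swap 0 i).trans (Equiv.swap t' j)
  have hσ0 : σ 0 = i := by
    simp only [σ, Equiv.trans_apply, Equiv.swap_apply_left]
    exact Equiv.swap_apply_of_ne_of_ne ht'.symm hij
  have hσ1 : σ 1 = j := by
    simp only [σ, Equiv.trans_apply]
    exact Equiv.swap_apply_left t' j
  set u : Fin (n + 3) → F := Pi.single j (w j)⁻¹ with hu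
  have hwu : w ⬝ᵥ u = 1 := by rw [hu, dotProduct_single, mul_inv_cancel₀ hj]
  let col : Fin (n + 3) → Fin (n + 3) → F := fun l =>
    if l = 0 then v else if l = 1 then u else Pi.single (σ l) 1 - w (σ l) • u
  have hwcol : ∀ l, w ⬝ᵥ col l = if l = 1 then 1 else 0 := by
    intro l
    by_cases h0 : l = 0
    · subst h0; simp [col, hwv]
    by_cases h1 : l = 1
    · subst h1; simp [col, hwu]
    · simp [col, h0, h1, dotProduct_sub, dotProduct_smul, hwu, dotProduct_single]
  let M : Matrix (Fin (n + 3)) (Fin (n + 3)) F := Matrix.of fun a l => col l a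
  have hdet : M.det ≠ 0 := by
    intro h
    obtain ⟨c, hc0, hc⟩ := Matrix.exists_mulVec_eq_zero_iff.mpr h
    apply hc0
    have hcoord : ∀ a, ∑ l, col l a * c l = 0 := fun a => congrFun hc a
    have hui : u i = 0 := by simp [hu, hij]
    have e0 : c 0 = 0 := by
      have := hcoord i
      rw [Finset.sum_eq_single 0 (fun l _ hl => ?_) (by simp)] at this
      · exact (mul_eq_zero.mp this).resolve_left (by simpa [col] using hi)
      · by_cases h1 : l = 1
        · subst h1; simp [col, hui]
        · have : i ≠ σ l := fun h => hl (σ.injective (h.symm.trans hσ0.symm))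
          simp [col, hl, h1, hui, Pi.single_eq_of_ne this]
    have eb : ∀ l, l ≠ 1 → c l = 0 := by
      intro l hl1
      by_cases hl0 : l = 0
      · rw [hl0, e0]
      have hne : σ l ≠ j := fun h => hl1 (σ.injective (h.trans hσ1.symm))
      have := hcoord (σ l)
      rw [Finset.sum_eq_single l (fun m _ hm => ?_) (by simp)] at this
      · simpa [col, hl0, hl1, hu, hne] using this
      · by_cases hm0 : m = 0
        · rw [hm0, e0, mul_zero]
        by_cases hm1 : m = 1
        · subst hm1; simp [col, hu, hne]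
        · have : σ l ≠ σ m := fun h => hm (σ.injective h).symm
          simp [col, hm0, hm1, hu, hne, Pi.single_eq_of_ne this]
    funext l
    by_cases hl : l = 1
    · have := hcoord j
      rw [Finset.sum_eq_single 1 (fun m _ hm => by rw [eb m hm, mul_zero]) (by simp)] at this
      subst hl
      simp [col, hu] at this
      exact this.resolve_left hj
    · exact eb l hl
  let d : Fin (n + 3) → F := fun i => if i = 2 then M.det⁻¹ else 1
  let g : Matrix.SpecialLinearGroup (Fin (n + 3)) F := ⟨M * Matrix.diagonal d, by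
    rw [Matrix.det_mul, Matrix.det_diagonal, Finset.prod_ite_eq', if_pos (Finset.mem_univ _),
      mul_inv_cancel₀ hdet]⟩
  have hd0 : d 0 = 1 := if_neg (by simp [Fin.ext_iff, Fin.val_two, Nat.mod_eq_of_lt (show 2 < n + 3 by omega)])
  have hd1 : d 1 = 1 := if_neg (by simp [Fin.ext_iff, Fin.val_two, Nat.mod_eq_of_lt (show 2 < n + 3 by omega)])
  have hg0 : (g : Matrix (Fin (n + 3)) (Fin (n + 3)) F) *ᵥ Pi.single 0 1 = v := by
    funext a
    simp [g, M, Matrix.mul_diagonal, col, hd0]
  have hwg : w ᵥ* (g : Matrix (Fin (n + 3)) (Fin (n + 3)) F) = Pi.single 1 1 := by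
    funext l
    have hcol : ∀ a, (g : Matrix (Fin (n + 3)) (Fin (n + 3)) F) a l = col l a * d l := fun a => by
      simp [g, M, Matrix.mul_diagonal]
    show ∑ a, w a * _ = _
    simp only [hcol, ← mul_assoc, ← Finset.sum_mul]
    rw [show ∑ a, w a * col l a = w ⬝ᵥ col l from rfl, hwcol]
    by_cases hl : l = 1
    · subst hl; simp [hd1]
    · simp [hl]
  refine ⟨g, ?_⟩
  have h2 : ((g⁻¹ : Matrix.SpecialLinearGroup (Fin (n + 3)) F) : Matrix (Fin (n + 3)) (Fin (n + 3)) F) * g = 1 := by
    rw [← Matrix.SpecialLinearGroup.coe_mul, inv_mul_cancel, Matrix.SpecialLinearGroup.coe_one]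
  rw [Matrix.SpecialLinearGroup.coe_mul, Matrix.SpecialLinearGroup.coe_mul, e, mul_add, add_mul,
    mul_one, h2, mul_vecMulVec, vecMulVec_mul, hwg, transvection_eq]
  conv_lhs => rw [← hg0, mulVec_mulVec, h2, one_mulVec]

end Cfsg.Agent.ThreeTrans62
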