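import Cfsg.Prelude.Def_SporadicB
import Cfsg.Agent.Lib.Reflections.Gen
import Cfsg.Agent.Lib.Reflections.NegOne

/-!
The transvections of a nondegenerate orthogonal group over the field of two elements form a class of
3-transpositions.
-/

set_option autoImplicit false

namespace Cfsg.Agent.ThreeTrans62

open Matrix QuadraticMap Cfsg.Agent.Reflections
open scoped Matrix

variable {ι : Type} [Fintype ι] [DecidableEq ι]

local notation "F2" => ZMod 2

variable {Q : QuadraticForm F2 (ι → F2)}

theorem f2_cases (a : F2) : a = 0 ∨ a = 1 := by revert a; decide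

theorem f2_ne_zero {a : F2} (h : a ≠ 0) : a = 1 := (f2_cases a).resolve_left h

theorem f2_sub_eq_add (x y : ι → F2) : x - y = x + y := by
  funext i
  simp only [Pi.sub_apply, Pi.add_apply]
  generalize x i = a; generalize y i = b; revert a b; decide

theorem polar_self_zero (v : ι → F2) : polar ⇑Q v v = 0 := by
  rw [polar_self', show (2 : F2) = 0 from rfl, zero_mul]

theorem act_refl_two {v : ι → F2} (hv : Q v = 1) (x : ι → F2) :
    act (refl Q v) x = x + polar ⇑Q v x • v := by
  rw [act_refl (by rw [hv]; exact one_ne_zero), hv, inv_one, one_mul, f2_sub_eq_add]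

theorem exists_polar_one (hQ : Q.polarBilin.Nondegenerate) {v : ι → F2} (hv : v ≠ 0) :
    ∃ x, polar ⇑Q v x = 1 := by
  by_contra h
  push Not at h
  exact hv (hQ.1 v fun x => (f2_cases _).resolve_right (h x))

/-- The elements with one-dimensional residual space are the transvections. -/
theorem rank_one_iff (hQ : Q.polarBilin.Nondegenerate) (g : ↥(Cfsg.isometryGroup F2 ⇑Q)) :
    (mat g - 1).rank = 1 ↔ ∃ v, Q v = 1 ∧ g = refl Q v := by
  have hlin : (mat g - 1).mulVecLin = lin g - LinearMap.id := by
    refine LinearMap.ext fun x => ?_; simp [Matrix.sub_mulVec, act]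
  have hrank : (mat g - 1).rank = Module.finrank F2 (resSp g) := by
    rw [Matrix.rank, hlin]; rfl
  rw [hrank]
  constructor
  · intro h
    obtain ⟨⟨v, hv⟩, hv0, hspan⟩ := finrank_eq_one_iff'.mp h
    have hv0' : v ≠ 0 := fun e => hv0 (Subtype.ext e)
    have hf : ∀ x, ∃ c : F2, act g x = x + c • v := by
      intro x
      obtain ⟨c, hc⟩ := hspan ⟨act g x - x, mem_resSp.mpr ⟨x, rfl⟩⟩
      refine ⟨c, ?_⟩
      have hc' : c • v = act g x - x := congrArg Subtype.val hc
      rw [hc']; abel
    choose c hc using hf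
    have key : ∀ x, c x * c x * Q v + c x * polar ⇑Q x v = 0 := by
      intro x
      have h1 := act_Q g x
      rw [hc x, map_add', Reflections.map_smul', polar_smul_right, smul_eq_mul] at h1
      linear_combination h1
    obtain ⟨y, hy⟩ := mem_resSp.mp hv
    have hcy : c y = 1 := by
      rw [hc y, add_sub_cancel_left] at hy
      rcases f2_cases (c y) with e | e
      · rw [e, zero_smul] at hy; exact absurd hy.symm hv0'
      · exact e
    have hcadd : ∀ x z, c (x + z) = c x + c z := by
      intro x z
      have h1 := act_add g x z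
      rw [hc, hc, hc] at h1
      have h2 : c (x + z) • v = (c x + c z) • v := by
        rw [add_smul]
        calc c (x + z) • v = (x + z + c (x + z) • v) - (x + z) := by abel
          _ = _ := by rw [h1]; abel
      exact smul_left_injective F2 hv0' h2
    have hQv : Q v = 1 := by
      rcases f2_cases (Q v) with e | e
      · exfalso
        obtain ⟨x, hx⟩ := exists_polar_one hQ hv0'
        rw [polar_comm] at hx
        have k1 := key x
        have k2 := key y
        have k3 := key (x + y)
        rw [e, mul_zero, zero_add] at k1 k2 k3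
        rw [hx, mul_one] at k1
        rw [hcy, one_mul] at k2
        rw [hcadd, QuadraticMap.polar_add_left, k1, hx, k2, hcy] at k3
        simp at k3
      · exact e
    refine ⟨v, hQv, isom_ext fun x => ?_⟩
    rw [act_refl_two hQv, hc x]
    congr 2
    have k1 := key x
    have k2 := key y
    have k3 := key (x + y)
    rw [hQv, mul_one] at k1 k2 k3
    rw [hcadd, QuadraticMap.polar_add_left] at k3
    rw [hcy] at k2 k3
    rw [polar_comm]
    revert k1 k2 k3
    generalize c x = a; generalize polar ⇑Q x v = b; generalize polar ⇑Q y v = d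
    revert a b d
    decide
  · rintro ⟨v, hv, rfl⟩
    have hv0 : v ≠ 0 := by rintro rfl; simp at hv
    obtain ⟨x, hx⟩ := exists_polar_one hQ hv0
    have : resSp (refl Q v) = Submodule.span F2 {v} := by
      refine le_antisymm ?_ ?_
      · intro w hw
        obtain ⟨u, rfl⟩ := mem_resSp.mp hw
        rw [act_refl_two hv, add_sub_cancel_left]
        exact Submodule.smul_mem _ _ (Submodule.subset_span rfl)
      · rw [Submodule.span_singleton_le_iff_mem]
        exact mem_resSp.mpr ⟨x, by rw [act_refl_two hv, add_sub_cancel_left, hx, one_smul]⟩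
    rw [this]
    exact finrank_span_singleton hv0

/-- In dimension at least five the vectors with `Q v = 1` form one orbit. -/
theorem exists_move (hQ : Q.polarBilin.Nondegenerate) (hn : 5 ≤ Fintype.card ι) {u v : ι → F2}
    (hu : Q u = 1) (hv : Q v = 1) : ∃ g : ↥(Cfsg.isometryGroup F2 ⇑Q), act g u = v := by
  have one : ∀ {a b : ι → F2}, Q a = 1 → Q b = 1 → polar ⇑Q a b = 1 →
      ∃ g : ↥(Cfsg.isometryGroup F2 ⇑Q), act g a = b := by
    intro a b ha hb hab
    have hs : Q (a + b) = 1 := by rw [map_add', ha, hb, hab]; decide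
    refine ⟨refl Q (a + b), ?_⟩
    rw [act_refl_two hs, QuadraticMap.polar_add_left, polar_self_zero, polar_comm, hab, zero_add,
      one_smul, ← add_assoc]
    rw [show a + a = 0 by rw [← f2_sub_eq_add, sub_self], zero_add]
  rcases f2_cases (polar ⇑Q u v) with h | h
  swap
  · exact one hu hv h
  by_cases huv : u = v
  · exact ⟨1, by rw [huv, act_one]⟩
  have hu0 : u ≠ 0 := by rintro rfl; simp at hu
  have hv0 : v ≠ 0 := by rintro rfl; simp at hv
  obtain ⟨x, hxu, hxv⟩ : ∃ x, polar ⇑Q u x = 1 ∧ polar ⇑Q v x = 1 := by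
    obtain ⟨x1, h1⟩ := exists_polar_one hQ hu0
    obtain ⟨x2, h2⟩ := exists_polar_one hQ hv0
    rcases f2_cases (polar ⇑Q v x1) with h3 | h3
    · rcases f2_cases (polar ⇑Q u x2) with h4 | h4
      · exact ⟨x1 + x2, by rw [QuadraticMap.polar_add_right, h1, h4, add_zero],
          by rw [QuadraticMap.polar_add_right, h3, h2, zero_add]⟩
      · exact ⟨x2, h4, h2⟩
    · exact ⟨x1, h1, h3⟩
  -- some `w` orthogonal to both and congruent to `x`, with `Q w = 1`
  obtain ⟨w, hwu, hwv, hw⟩ : ∃ w, polar ⇑Q u w = 1 ∧ polar ⇑Q v w = 1 ∧ Q w = 1 := by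
    by_contra! hall
    set S := Submodule.span F2 ({u, v} : Set (ι → F2)) with hS
    set W := LinearMap.BilinForm.orthogonal Q.polarBilin S with hW
    have hmem : ∀ y ∈ W, polar ⇑Q u y = 0 ∧ polar ⇑Q v y = 0 := fun y hy =>
      ⟨hy u (Submodule.subset_span (by simp)), hy v (Submodule.subset_span (by simp))⟩
    have hlin : ∀ y ∈ W, Q y = polar ⇑Q x y := by
      intro y hy
      obtain ⟨hyu, hyv⟩ := hmem y hy
      have e1 := hall x hxu hxv
      have e2 := hall (x + y) (by rw [QuadraticMap.polar_add_right, hxu, hyu, add_zero])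
        (by rw [QuadraticMap.polar_add_right, hxv, hyv, add_zero])
      rw [map_add', (f2_cases (Q x)).resolve_right e1] at e2
      revert e2
      generalize Q y = a; generalize polar ⇑Q x y = b
      revert a b
      decide
    have hiso : W ≤ LinearMap.BilinForm.orthogonal Q.polarBilin W := by
      intro z hz y hy
      show polar ⇑Q y z = 0
      have := hlin (y + z) (W.add_mem hy hz)
      rw [map_add', hlin y hy, hlin z hz, QuadraticMap.polar_add_right] at this
      simpa using this
    have h1 := Submodule.finrank_mono hiso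
    rw [LinearMap.BilinForm.finrank_orthogonal hQ W, hW,
      LinearMap.BilinForm.finrank_orthogonal hQ S, Module.finrank_fintype_fun_eq_card] at h1
    have h2 : Module.finrank F2 S ≤ 2 := by
      classical
      rw [hS, show ({u, v} : Set (ι → F2)) = (({u, v} : Finset (ι → F2)) : Set (ι → F2)) by simp]
      exact (finrank_span_finset_le_card _).trans Finset.card_le_two
    omega
  obtain ⟨g, hg⟩ := one hu hw hwu
  obtain ⟨k, hk⟩ := one hw hv (by rw [polar_comm]; exact hwv)
  exact ⟨k * g, by rw [act_mul, hg, hk]⟩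

theorem threeTrans (hQ : Q.polarBilin.Nondegenerate) (hn : 5 ≤ Fintype.card ι) :
    Cfsg.IsThreeTranspositionClass
      {g : ↥(Cfsg.isometryGroup F2 ⇑Q) | (mat g - 1).rank = 1} := by
  have hne : ∀ {v : ι → F2}, Q v = 1 → Q v ≠ 0 := fun h => by rw [h]; exact one_ne_zero
  obtain ⟨v₀, hv₀⟩ : ∃ v, Q v = 1 := by
    by_contra! h
    have h0 : ∀ x, Q x = 0 := fun x => (f2_cases _).resolve_right (h x)
    have : Nonempty ι := Fintype.card_pos_iff.mp (by omega)
    obtain ⟨i⟩ := this
    have := hQ.1 (Pi.single i 1) fun x => by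
      show polar ⇑Q (Pi.single i 1) x = 0
      simp [QuadraticMap.polar, h0]
    have h1 := congrFun this i
    simp at h1
  refine ⟨⟨?_, ?_⟩, ⟨refl Q v₀, (rank_one_iff hQ _).mpr ⟨v₀, hv₀, rfl⟩, ?_⟩, ?_⟩
  · intro d hd
    obtain ⟨v, hv, rfl⟩ := (rank_one_iff hQ d).mp hd
    refine orderOf_eq_prime (by rw [pow_two, refl_mul_self (hne hv)]) fun h => ?_
    have hv0 : v ≠ 0 := by rintro rfl; simp at hv
    obtain ⟨x, hx⟩ := exists_polar_one hQ hv0
    have := act_refl_two hv x
    rw [h, act_one, hx, one_smul, left_eq_add] at this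
    exact hv0 this
  · intro d hd e he
    obtain ⟨u, hu, rfl⟩ := (rank_one_iff hQ d).mp hd
    obtain ⟨v, hv, rfl⟩ := (rank_one_iff hQ e).mp he
    set a := refl Q u
    set b := refl Q v
    have hai : a⁻¹ = a := refl_inv (hne hu)
    have hbi : b⁻¹ = b := refl_inv (hne hv)
    rcases f2_cases (polar ⇑Q u v) with h | h
    · left
      have e1 : a * b * a⁻¹ = b := by
        rw [conj_refl _ (hne hv), act_refl_two hu, h, zero_smul, add_zero]
      calc (a * b) ^ 2 = (a * b * a⁻¹) * b := by rw [pow_two, hai]; group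
        _ = 1 := by rw [e1]; exact refl_mul_self (hne hv)
    · right
      have e1 : a * b * a⁻¹ = b * a * b⁻¹ := by
        rw [conj_refl _ (hne hv), conj_refl _ (hne hu), act_refl_two hu, act_refl_two hv, h,
          polar_comm, h, one_smul, one_smul, add_comm]
      rw [hai, hbi] at e1
      calc (a * b) ^ 3 = (a * b * a) * (b * a * b) := by
            simp only [pow_succ, pow_zero, one_mul, mul_assoc]
        _ = 1 := by
          rw [← e1]
          calc a * b * a * (a * b * a) = a * b * (a * a) * (b * a) := by group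
            _ = a * (b * b) * a := by rw [refl_mul_self (hne hu)]; group
            _ = 1 := by rw [refl_mul_self (hne hv), mul_one, refl_mul_self (hne hu)]
  · refine Set.eq_of_subset_of_subset ?_ ?_
    · intro g hg
      obtain ⟨v, hv, rfl⟩ := (rank_one_iff hQ g).mp hg
      obtain ⟨k, hk⟩ := exists_move hQ hn hv₀ hv
      show IsConj (refl Q v₀) _
      rw [isConj_iff]
      exact ⟨k, by rw [conj_refl _ (hne hv₀), hk]⟩
    · intro g hg
      change IsConj (refl Q v₀) g at hg
      rw [isConj_iff] at hg
      obtain ⟨k, rfl⟩ := hg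
      exact (rank_one_iff hQ _).mpr ⟨act k v₀, by rw [act_Q, hv₀], conj_refl _ (hne hv₀)⟩
  · rw [← top_le_iff, ← Reflections.reflGroup_eq_top hQ (Or.inr (by omega)), reflGroup]
    refine Subgroup.closure_mono ?_
    rintro g ⟨v, hv, hg⟩
    exact (rank_one_iff hQ g).mpr ⟨v, f2_ne_zero hv, eq_refl_of_mat hv hg⟩

theorem qPlus_nondeg (m : ℕ) : (qPlus m F2).polarBilin.Nondegenerate := by
  have hp : ∀ x y : Fin m ⊕ Fin m → F2, polar ⇑(qPlus m F2) x y =
      ∑ i, (x (.inl i) * y (.inr i) + y (.inl i) * x (.inr i)) := by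
    intro x y
    simp only [coe_qPlus, QuadraticMap.polar, Cfsg.quadFormPlus, Pi.add_apply,
      ← Finset.sum_sub_distrib]
    exact Finset.sum_congr rfl fun i _ => by ring
  have main : ∀ x, (∀ y, polar ⇑(qPlus m F2) x y = 0) → x = 0 := by
    intro x hx
    funext k
    rcases k with i | i
    · have h := hx (Pi.single (Sum.inr i) 1)
      rw [hp] at h
      simpa [Pi.single_apply] using h
    · have h := hx (Pi.single (Sum.inl i) 1)
      rw [hp] at h
      simpa [Pi.single_apply] using h
  exact ⟨main, fun x hx => main x fun y => by rw [polar_comm]; exact hx y⟩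

theorem qMinus_nondeg (m : ℕ) : (qMinus m F2 1 1).polarBilin.Nondegenerate := by
  have hp : ∀ x y : (Fin m ⊕ Fin m) ⊕ Fin 2 → F2, polar ⇑(qMinus m F2 1 1) x y =
      ∑ i, (x (.inl (.inl i)) * y (.inl (.inr i)) + y (.inl (.inl i)) * x (.inl (.inr i))) +
        (x (.inr 0) * y (.inr 1) + x (.inr 1) * y (.inr 0)) := by
    intro x y
    simp only [coe_qMinus, QuadraticMap.polar, Cfsg.quadFormMinus, Pi.add_apply]
    rw [Finset.sum_add_distrib]
    simp only [add_mul, mul_add, Finset.sum_add_distrib]
    have h2 : (2 : F2) = 0 := rfl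
    linear_combination (x (.inr 0) * y (.inr 0) + x (.inr 1) * y (.inr 1)) * h2
  have main : ∀ x, (∀ y, polar ⇑(qMinus m F2 1 1) x y = 0) → x = 0 := by
    intro x hx
    funext k
    rcases k with (i | i) | i
    · have h := hx (Pi.single (Sum.inl (Sum.inr i)) 1)
      rw [hp] at h
      simpa [Pi.single_apply] using h
    · have h := hx (Pi.single (Sum.inl (Sum.inl i)) 1)
      rw [hp] at h
      simpa [Pi.single_apply] using h
    · fin_cases i
      · have h := hx (Pi.single (Sum.inr 1) 1)
        rw [hp] at h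
        simpa [Pi.single_apply] using h
      · have h := hx (Pi.single (Sum.inr 0) 1)
        rw [hp] at h
        simpa [Pi.single_apply] using h
  exact ⟨main, fun x hx => main x fun y => by rw [polar_comm]; exact hx y⟩

theorem transfer {f g : (ι → F2) → F2} (h : f = g)
    (H : Cfsg.IsThreeTranspositionClass {x : ↥(Cfsg.isometryGroup F2 f) |
      (((x : Matrix.GeneralLinearGroup ι F2) : Matrix ι ι F2) - 1).rank = 1}) :
    Cfsg.IsThreeTranspositionClass {x : ↥(Cfsg.isometryGroup F2 g) |
      (((x : Matrix.GeneralLinearGroup ι F2) : Matrix ι ι F2) - 1).rank = 1} := by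
  subst h
  exact H

end Cfsg.Agent.ThreeTrans62
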